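import Cfsg.Agent.OD.Pre
import Cfsg.Agent.H6.Top2
import Cfsg.Agent.H6.J3A.D0
set_option autoImplicit false
set_option maxRecDepth 100000
set_option Elab.async false
set_option linter.all false
namespace CfH6.J3A
open CfH6 MulAction
noncomputable def n0_0 : Net := mkNet (nat_lit 8192) [(nat_lit 4096, k0), (nat_lit 2048, k1), (nat_lit 1024, k2), (nat_lit 512, k3), (nat_lit 256, k4), (nat_lit 128, k5), (nat_lit 64, k6), (nat_lit 32, k7), (nat_lit 16, k8), (nat_lit 8, k9), (nat_lit 4, k10), (nat_lit 2, k11)] [(k12, nat_lit 1)]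
noncomputable def n0_1 : Net := mkNet (nat_lit 8192) [(nat_lit 4096, k13), (nat_lit 2048, k14), (nat_lit 1024, k15), (nat_lit 512, k16), (nat_lit 256, k17), (nat_lit 128, k18), (nat_lit 64, k19), (nat_lit 32, k20), (nat_lit 16, k21), (nat_lit 8, k22), (nat_lit 4, k23), (nat_lit 2, k24)] [(k25, nat_lit 1)]
noncomputable def n0_2 : Net := mkNet (nat_lit 8192) [(nat_lit 4096, k26), (nat_lit 2048, k27), (nat_lit 1024, k28), (nat_lit 512, k29), (nat_lit 256, k30), (nat_lit 128, k31), (nat_lit 64, k32), (nat_lit 32, k33), (nat_lit 16, k34), (nat_lit 8, k35), (nat_lit 4, k36), (nat_lit 2, k37)] [(k38, nat_lit 1)]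
noncomputable def n0_3 : Net := mkNet (nat_lit 8192) [(nat_lit 4096, k39), (nat_lit 2048, k40), (nat_lit 1024, k41), (nat_lit 512, k42), (nat_lit 256, k43), (nat_lit 128, k44), (nat_lit 64, k45), (nat_lit 32, k46), (nat_lit 16, k47), (nat_lit 8, k48), (nat_lit 4, k49), (nat_lit 2, k50)] [(k51, nat_lit 1)]
noncomputable def n0_4 : Net := mkNet (nat_lit 8192) [(nat_lit 4096, k52), (nat_lit 2048, k53), (nat_lit 1024, k54), (nat_lit 512, k55), (nat_lit 256, k56), (nat_lit 128, k57), (nat_lit 64, k58), (nat_lit 32, k59), (nat_lit 16, k60), (nat_lit 8, k61), (nat_lit 4, k62), (nat_lit 2, k63)] [(k64, nat_lit 1)]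
noncomputable def n0_5 : Net := mkNet (nat_lit 8192) [(nat_lit 4096, k65), (nat_lit 2048, k66), (nat_lit 1024, k67), (nat_lit 512, k68), (nat_lit 256, k69), (nat_lit 128, k70), (nat_lit 64, k71), (nat_lit 32, k72), (nat_lit 16, k73), (nat_lit 8, k74), (nat_lit 4, k75), (nat_lit 2, k76)] [(k77, nat_lit 1)]
noncomputable def n0_6 : Net := mkNet (nat_lit 8192) [(nat_lit 4096, k78), (nat_lit 2048, k79), (nat_lit 1024, k80), (nat_lit 512, k81), (nat_lit 256, k82), (nat_lit 128, k83), (nat_lit 64, k84), (nat_lit 32, k85), (nat_lit 16, k86), (nat_lit 8, k87), (nat_lit 4, k88), (nat_lit 2, k89)] [(k90, nat_lit 1)]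
noncomputable def n0_7 : Net := mkNet (nat_lit 8192) [(nat_lit 4096, k91), (nat_lit 2048, k92), (nat_lit 1024, k93), (nat_lit 512, k94), (nat_lit 256, k95), (nat_lit 128, k96), (nat_lit 64, k97), (nat_lit 32, k98), (nat_lit 16, k99), (nat_lit 8, k100), (nat_lit 4, k101), (nat_lit 2, k102)] [(k103, nat_lit 1)]
noncomputable def n0_8 : Net := mkNet (nat_lit 8192) [(nat_lit 4096, k104), (nat_lit 2048, k105), (nat_lit 1024, k106), (nat_lit 512, k107), (nat_lit 256, k108), (nat_lit 128, k109), (nat_lit 64, k110), (nat_lit 32, k111), (nat_lit 16, k112), (nat_lit 8, k113), (nat_lit 4, k114), (nat_lit 2, k115)] [(k116, nat_lit 1)]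
noncomputable def n0_9 : Net := revNet n0_8
noncomputable def n0_10 : Net := mkNet (nat_lit 8192) [(nat_lit 4096, k117), (nat_lit 2048, k118), (nat_lit 1024, k119), (nat_lit 512, k120), (nat_lit 256, k121), (nat_lit 128, k122), (nat_lit 64, k123), (nat_lit 32, k124), (nat_lit 16, k125), (nat_lit 8, k126), (nat_lit 4, k127), (nat_lit 2, k128)] [(k129, nat_lit 1)]
noncomputable def n0_11 : Net := revNet n0_10
noncomputable def n0_12 : Net := mkNet (nat_lit 8192) [(nat_lit 4096, k130), (nat_lit 2048, k131), (nat_lit 1024, k132), (nat_lit 512, k133), (nat_lit 256, k134), (nat_lit 128, k135), (nat_lit 64, k136), (nat_lit 32, k137), (nat_lit 16, k138), (nat_lit 8, k139), (nat_lit 4, k140), (nat_lit 2, k141)] [(k142, nat_lit 1)]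
noncomputable def n1_3 : Net := mkNet (nat_lit 8192) [(nat_lit 4096, k143), (nat_lit 2048, k144), (nat_lit 1024, k145), (nat_lit 512, k146), (nat_lit 256, k147), (nat_lit 128, k148), (nat_lit 64, k149), (nat_lit 32, k150), (nat_lit 16, k151), (nat_lit 8, k152), (nat_lit 4, k153), (nat_lit 2, k154)] [(k155, nat_lit 1)]
noncomputable def n1_4 : Net := mkNet (nat_lit 8192) [(nat_lit 4096, k156), (nat_lit 2048, k157), (nat_lit 1024, k158), (nat_lit 512, k159), (nat_lit 256, k160), (nat_lit 128, k161), (nat_lit 64, k162), (nat_lit 32, k163), (nat_lit 16, k164), (nat_lit 8, k165), (nat_lit 4, k166), (nat_lit 2, k167)] [(k168, nat_lit 1)]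
noncomputable def n2_0 : Net := mkNet (nat_lit 96) [(nat_lit 48, (nat_lit 0)), (nat_lit 24, (nat_lit 0xc00000c00000)), (nat_lit 12, (nat_lit 0xc00c00000000c00c00fe0fe0)), (nat_lit 6, (nat_lit 0xc30000000000000c30840000)), (nat_lit 3, (nat_lit 0x3492aaa0aaaaa0ab8ab8a80))] [((nat_lit 0x248201208201208041208), nat_lit 1), ((nat_lit 0x2412490492490492492482), nat_lit 1), ((nat_lit 0x1201048041048049209040), nat_lit 1)]
noncomputable def nets0 : List Net := [n0_0, n0_1, n0_2, n0_3, n0_4, n0_5, n0_6, n0_7, n0_8, n0_9, n0_10, n0_11, n0_12]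
noncomputable def nets1 : List Net := [n0_0, n0_5, n0_6, n1_3, n1_4]
def ws1 : List (List ℕ) := [[0],
  [5],
  [6],
  [4, 6, 4],
  [12, 7, 12]]
noncomputable def nets2 : List Net := [n2_0]
def ws2 : List (List ℕ) := [[3, 1, 2]]
def sig : List (List ℕ) := [[0],
  [1],
  [2],
  [3],
  [4],
  [5],
  [6],
  [7],
  [8],
  [9],
  [10],
  [11],
  [12]]
def eqs0 : List (List ℕ × List ℕ) := [([0, 0], []),
  ([1, 1], []),
  ([2, 2], []),
  ([3, 3], []),
  ([4, 4], []),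
  ([5, 5], []),
  ([6, 6], []),
  ([7, 7], []),
  ([8, 9], []),
  ([10, 11], []),
  ([12, 12], []),
  ([0, 1], [1, 0]),
  ([0, 2], [2, 0]),
  ([0, 3], [3, 0]),
  ([0, 4], [4, 0]),
  ([0, 5], [5, 0]),
  ([0, 6], [6, 0]),
  ([0, 7], [7, 0]),
  ([0, 9], [9, 0]),
  ([1, 2, 1], [0, 2]),
  ([1, 3, 1], [0, 3]),
  ([1, 4, 1], [0, 4]),
  ([1, 5, 1], [0, 5]),
  ([2, 3, 2], [0, 3]),
  ([2, 4, 2], [0, 4]),
  ([2, 5, 2], [0, 5]),
  ([3, 4, 3], [0, 4]),
  ([3, 5, 3], [0, 5]),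
  ([4, 5, 4], [0, 5]),
  ([1, 2, 3], [5, 4]),
  ([6, 1], [2, 6]),
  ([6, 3], [4, 6]),
  ([6, 5], [5, 6]),
  ([7, 1], [2, 7]),
  ([7, 3], [3, 7]),
  ([7, 4], [5, 7]),
  ([8, 1], [2, 8]),
  ([8, 2], [3, 8]),
  ([8, 4], [4, 8]),
  ([8, 5], [5, 8]),
  ([8, 8], [9]),
  ([6, 8, 6], [9, 6, 9]),
  ([7, 6, 7], [6, 7, 6]),
  ([7, 8], [9, 7]),
  ([10, 10], [11]),
  ([10, 0], [5, 10]),
  ([10, 5, 11], [5, 0]),
  ([11, 6], [6, 11]),
  ([11, 9], [9, 11]),
  ([4, 10, 4], [9, 11]),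
  ([12, 10], [8, 12]),
  ([12, 0], [6, 12]),
  ([12, 4, 6, 4, 12, 4], [4, 6, 4, 12, 4, 6]),
  ([12, 4, 12, 4, 12, 7, 11, 8, 7], [7, 8, 11, 7, 8, 11, 4, 9, 10])]
def eqs : List (List ℕ × List ℕ) := eqs0
def lU : List (ℕ × ℕ) := [(0, 86), (96, 6070)]
noncomputable def U : ℕ := ivls lU
def l1 : List (ℕ × ℕ) := [(1, 16), (96, 494)]
noncomputable def S1 : ℕ := ivls l1
def w1 : List ℕ := [1]
def l2 : List (ℕ × ℕ) := [(17, 9), (590, 2031)]
noncomputable def S2 : ℕ := ivls l2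
def w2 : List ℕ := [7]
def l3 : List (ℕ × ℕ) := [(26, 4), (2621, 81)]
noncomputable def S3 : ℕ := ivls l3
def w3 : List ℕ := [8]
def l4 : List (ℕ × ℕ) := [(30, 12), (2702, 668)]
noncomputable def S4 : ℕ := ivls l4
def w4 : List ℕ := [12]
def l5 : List (ℕ × ℕ) := [(42, 4), (3370, 116)]
noncomputable def S5 : ℕ := ivls l5
def w5 : List ℕ := [7, 1]
def l6 : List (ℕ × ℕ) := [(46, 20), (3486, 1340)]
noncomputable def S6 : ℕ := ivls l6
def w6 : List ℕ := [8, 7]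
def l7 : List (ℕ × ℕ) := [(66, 20), (4826, 1340)]
noncomputable def S7 : ℕ := ivls l7
def w7 : List ℕ := [9, 7]
noncomputable def J : List (List ℕ × ℕ × ℕ) := [(w1, 96, S1), (w2, 17, S2), (w3, 26, S3), (w4, 34, S4), (w5, 3370, S5), (w6, 56, S6), (w7, 76, S7)]
def lBig : List (ℕ × ℕ) := [(17, 9), (46, 20), (590, 2031), (3486, 1340)]
noncomputable def J7 : List (List ℕ × ℕ × ℕ) := [([0, 5, 4, 0, 5, 2, 5, 0, 3, 0], 17, S2), ([4, 5, 2, 0, 5, 4, 5, 4, 3, 0], 56, S6)]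
noncomputable def J6 : List (List ℕ × ℕ × ℕ) := [([3, 0, 4, 5, 2, 0, 5, 4, 2, 0], 17, S2), ([0], 56, S6)]
noncomputable def J5 : List (List ℕ × ℕ × ℕ) := [([3, 0, 3, 0], 17, S2), ([4, 5, 4, 2, 0, 5, 4, 5, 0], 56, S6)]
noncomputable def J4 : List (List ℕ × ℕ × ℕ) := [([0, 5, 0], 17, S2), ([0, 2, 1, 5, 2, 5, 2, 0], 56, S6)]
noncomputable def J3 : List (List ℕ × ℕ × ℕ) := [([0, 4, 5, 1, 0, 5, 0], 17, S2), ([0, 0, 4, 5, 1, 0, 5, 0], 56, S6)]
noncomputable def J2 : List (List ℕ × ℕ × ℕ) := [([0], 17, S2), ([5, 0, 5, 2, 0, 2, 0, 5, 0, 2, 0], 56, S6)]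
noncomputable def J1 : List (List ℕ × ℕ × ℕ) := [([5, 0, 5, 2, 1, 5, 0, 5, 2, 5, 0], 17, S2), ([5, 3, 1, 0, 5, 0, 5, 4, 5, 3, 0, 5, 0], 56, S6)]
def ex : List (List ℕ) := [[3, 8, 12]]
def bs' : List ℕ := [0, 17, 22]
end CfH6.J3A
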